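import Groth.Agent.PicLib.BasisOn
import Groth.Agent.Coherent.QcohOps
import Groth.Agent.TwistLib.G.Map
import Mathlib.RingTheory.Trace.Basic

/-!
# Local bases versus trivialisations of modules on a scheme
-/

set_option autoImplicit false
set_option backward.isDefEq.respectTransparency.types false

universe u

open CategoryTheory CategoryTheory.Limits AlgebraicGeometry Opposite TopologicalSpace
open Groth.Agent.Coherent Groth.Agent.PicLib

namespace Groth.Agent.FinCovLib29

variable {X : Scheme.{u}}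

theorem isBasisOn_restrict {I : Type u} [Fintype I] {M : X.Modules} {U V : X.Opens}
    {e : I → Γ(M, U)} (hb : IsBasisOn M U e) (h : V ≤ U) : IsBasisOn M V fun i => resM M h (e i) := by
  intro W hW
  convert hb (hW.trans h) using 1
  funext c
  exact Finset.sum_congr rfl fun i _ => by rw [resM_resM]

theorem exists_isBasisOn_of_rank {N : X.Modules} {n : ℕ} (hN : FlatMod.IsFinLocFreeOfRank n N) (y : X) :
    ∃ (U : X.Opens) (e : ULift.{u} (Fin n) → Γ(N, U)), y ∈ U ∧ IsBasisOn N U e := by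
  classical
  obtain ⟨U₀, hy, ⟨e⟩⟩ := hN y
  let ψ := e ≪≫ (Props12.freeModIso U₀.toScheme n).symm
  let v : ∀ W : U₀.toScheme.Opens, ULift.{u} (Fin n) → Γ(N, U₀.ι ''ᵁ W) := fun W i =>
    (N.restrictAppIso U₀.ι W).hom (unitVal (freeInj i ≫ ψ.inv) W)
  refine ⟨U₀.ι ''ᵁ ⊤, v ⊤, (Scheme.Opens.ι_image_top U₀).ge hy, fun V hV => ?_⟩
  obtain ⟨W, rfl⟩ : ∃ W : U₀.toScheme.Opens, U₀.ι ''ᵁ W = V := by
    refine ⟨U₀.ι ⁻¹ᵁ V, ?_⟩
    rw [U₀.ι.image_preimage_eq_opensRange_inf, Scheme.Opens.opensRange_ι, inf_eq_right]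
    exact hV.trans (Scheme.Opens.ι_image_top U₀).le
  have hres : ∀ i, resM N hV (v ⊤ i) = v W i := fun i => by
    show resM N hV ((N.restrictAppIso U₀.ι ⊤).hom (unitVal _ ⊤)) = (N.restrictAppIso U₀.ι W).hom (unitVal _ W)
    rw [← resM_unitVal (freeInj i ≫ ψ.inv) (le_top : W ≤ ⊤)]
    rfl
  have h1 := ConcreteCategory.bijective_of_isIso (U₀.ι.appIso W).hom
  have h2 := (freeSectionsEquiv (X := U₀.toScheme) (I := ULift.{u} (Fin n)) W).symm.bijective
  have h3 := ConcreteCategory.bijective_of_isIso (C := AddCommGrpCat) (ψ.inv.app W)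
  have h4 := ConcreteCategory.bijective_of_isIso (N.restrictAppIso U₀.ι W).hom
  have h1' : Function.Bijective (fun c : ULift.{u} (Fin n) → Γ(X, U₀.ι ''ᵁ W) => fun i => (U₀.ι.appIso W).hom (c i)) :=
    Function.Bijective.piMap fun _ => h1
  convert h4.comp (h3.comp (h2.comp h1')) using 1
  funext c
  simp only [Function.comp_apply, hres]
  rw [freeMod_app, map_sum]
  refine Finset.sum_congr rfl fun i _ => ?_
  refine Eq.trans ?_ (Scheme.Modules.smul_restrictAppIso_hom_apply U₀.ι N W _ _).symm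
  congr 1
  show c i = (U₀.ι.appIso W).inv (freeSectionsEquiv W ((freeSectionsEquiv W).symm _) i)
  rw [LinearEquiv.apply_symm_apply, ← ConcreteCategory.comp_apply, Iso.hom_inv_id]
  rfl

/-- A basis on all smaller opens trivialises the module. -/
theorem nonempty_iso_of_isBasisOn {M : X.Modules} {U : X.Opens} {n : ℕ}
    {e : ULift.{u} (Fin n) → Γ(M, U)} (hb : IsBasisOn M U e) :
    Nonempty (M.restrict U.ι ≅ FlatMod.freeMod (↑U) n) := by
  classical
  have htop : U.ι ''ᵁ ⊤ ≤ U := (Scheme.Opens.ι_image_top U).le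
  let φ : Coherent.freeMod U.toScheme (ULift.{u} (Fin n)) ⟶ M.restrict U.ι :=
    freeDesc fun i => unitDesc (M.restrict U.ι) (show Γ(M.restrict U.ι, ⊤) from resM M htop (e i))
  haveI : IsIso φ := by
    refine TwistLib.G.isIso_of_bijective_on_basis φ (fun _ => True)
      (fun V y hy => ⟨V, trivial, hy, le_rfl⟩) fun W _ => ?_
    have hW : U.ι ''ᵁ W ≤ U := (U.ι.image_mono le_top).trans htop
    have h1 : Function.Bijective (fun c : ULift.{u} (Fin n) → Γ(U.toScheme, W) =>
        fun i => (U.ι.appIso W).inv (c i)) :=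
      Function.Bijective.piMap fun _ => ConcreteCategory.bijective_of_isIso (U.ι.appIso W).inv
    have h2 := (hb hW).comp (h1.comp (freeSectionsEquiv (X := U.toScheme) (I := ULift.{u} (Fin n)) W).bijective)
    have hfun : ∀ a, φ.app W a = ∑ i, (U.ι.appIso W).inv (freeCoord W i a) • resM M hW (e i) := fun a => ?_
    exact (funext hfun : ⇑(φ.app W) = _) ▸ h2
    rw [freeMod_app]
    refine Finset.sum_congr rfl fun i _ => ?_
    rw [freeInj_freeDesc, unitVal_unitDesc]
    show (U.ι.appIso W).inv (freeCoord W i a) • resM M (U.ι.image_mono (le_top : W ≤ ⊤)) (resM M htop (e i)) = _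
    rw [resM_resM]
  exact ⟨(asIso φ).symm ≪≫ Props12.freeModIso _ n⟩

end Groth.Agent.FinCovLib29
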