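import Groth.Agent.FinCovLib29.Double
import Groth.Agent.AmpleLib.Ample

/-!
# The algebra `O ⊕ L` of a pairing on an invertible module
-/

set_option autoImplicit false
set_option backward.isDefEq.respectTransparency.types false

universe u

open CategoryTheory CategoryTheory.Limits AlgebraicGeometry Opposite TopologicalSpace
open Groth.Agent.Coherent Groth.Agent.PicLib Groth.Agent.AmpleLib

noncomputable section

namespace Groth.Agent.FinCovLib29.Construct

variable {X : Scheme.{u}} {L : X.Modules} (hL : PicF.IsInvertible L)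
  (m : CohB1.tensorMod L L ⟶ Coh.structureModule X)

/-- The pairing on sections. -/
def pair {U : X.Opens} (a b : Γ(L, U)) : Γ(X, U) := m.app U (tmul a b)

theorem pair_add_left {U : X.Opens} (a a' b : Γ(L, U)) : pair m (a + a') b = pair m a b + pair m a' b := by
  unfold pair; rw [tmul_add_left]; exact map_add (m.app U).hom _ _

theorem pair_add_right {U : X.Opens} (a b b' : Γ(L, U)) : pair m a (b + b') = pair m a b + pair m a b' := by
  unfold pair; rw [tmul_add_right]; exact map_add (m.app U).hom _ _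

theorem pair_smul_left {U : X.Opens} (r : Γ(X, U)) (a b : Γ(L, U)) : pair m (r • a) b = r * pair m a b := by
  unfold pair; rw [tmul_smul_left]; exact Scheme.Modules.Hom.app_smul m r _

theorem pair_smul_right {U : X.Opens} (r : Γ(X, U)) (a b : Γ(L, U)) : pair m a (r • b) = r * pair m a b := by
  unfold pair; rw [tmul_smul_right]; exact Scheme.Modules.Hom.app_smul m r _

theorem pair_zero_left {U : X.Opens} (b : Γ(L, U)) : pair m 0 b = 0 := by
  simpa using pair_smul_left m (0 : Γ(X, U)) 0 b

theorem pair_zero_right {U : X.Opens} (a : Γ(L, U)) : pair m a 0 = 0 := by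
  simpa using pair_smul_right m (0 : Γ(X, U)) a 0

theorem res_pair {U V : X.Opens} (h : V ≤ U) (a b : Γ(L, U)) :
    X.presheaf.map (homOfLE h).op (pair m a b) = pair m (resM L h a) (resM L h b) := by
  refine (app_resM m h _).symm.trans ?_
  rw [resM_tmul]
  rfl

section

include hL

theorem pair_comm {U : X.Opens} (a b : Γ(L, U)) : pair m a b = pair m b a := by
  refine sec_ext (Coh.structureModule X) _ _ fun y hy => ?_
  obtain ⟨W₀, hy₀, g, hg⟩ := exists_isGen hL y
  refine ⟨W₀ ⊓ U, inf_le_right, ⟨hy₀, hy⟩, ?_⟩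
  show X.presheaf.map _ (pair m a b) = X.presheaf.map _ (pair m b a)
  rw [res_pair, res_pair, ← hg.coef_spec inf_le_left (resM L inf_le_right a),
    ← hg.coef_spec inf_le_left (resM L inf_le_right b), pair_smul_left, pair_smul_right,
    pair_smul_left, pair_smul_right]
  ring

theorem pair_smul_cycle {U : X.Opens} (a b c : Γ(L, U)) : pair m a b • c = pair m b c • a := by
  refine sec_ext L _ _ fun y hy => ?_
  obtain ⟨W₀, hy₀, g, hg⟩ := exists_isGen hL y
  refine ⟨W₀ ⊓ U, inf_le_right, ⟨hy₀, hy⟩, ?_⟩
  rw [resM_smul, resM_smul, res_pair, res_pair, ← hg.coef_spec inf_le_left (resM L inf_le_right a),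
    ← hg.coef_spec inf_le_left (resM L inf_le_right b), ← hg.coef_spec inf_le_left (resM L inf_le_right c),
    pair_smul_left, pair_smul_right, pair_smul_left, pair_smul_right, smul_smul, smul_smul]
  congr 1
  ring

end

/-- Sections of `O ⊕ L`. -/
@[ext]
structure DblSec (hL : PicF.IsInvertible L) (m : CohB1.tensorMod L L ⟶ Coh.structureModule X) (U : X.Opens) where
  fst : Γ(X, U)
  snd : Γ(L, U)

variable {hL} {m} {U V : X.Opens}

instance : Zero (DblSec hL m U) := ⟨⟨0, 0⟩⟩
instance : One (DblSec hL m U) := ⟨⟨1, 0⟩⟩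
instance : Add (DblSec hL m U) := ⟨fun p q => ⟨p.fst + q.fst, p.snd + q.snd⟩⟩
instance : Neg (DblSec hL m U) := ⟨fun p => ⟨-p.fst, -p.snd⟩⟩
instance : Mul (DblSec hL m U) :=
  ⟨fun p q => ⟨p.fst * q.fst + pair m p.snd q.snd, p.fst • q.snd + q.fst • p.snd⟩⟩

@[simp] theorem zero_fst : (0 : DblSec hL m U).fst = 0 := rfl
@[simp] theorem zero_snd : (0 : DblSec hL m U).snd = 0 := rfl
@[simp] theorem one_fst : (1 : DblSec hL m U).fst = 1 := rfl
@[simp] theorem one_snd : (1 : DblSec hL m U).snd = 0 := rfl
@[simp] theorem add_fst (p q : DblSec hL m U) : (p + q).fst = p.fst + q.fst := rfl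
@[simp] theorem add_snd (p q : DblSec hL m U) : (p + q).snd = p.snd + q.snd := rfl
@[simp] theorem neg_fst (p : DblSec hL m U) : (-p).fst = -p.fst := rfl
@[simp] theorem neg_snd (p : DblSec hL m U) : (-p).snd = -p.snd := rfl
@[simp] theorem mul_fst (p q : DblSec hL m U) : (p * q).fst = p.fst * q.fst + pair m p.snd q.snd := rfl
@[simp] theorem mul_snd (p q : DblSec hL m U) : (p * q).snd = p.fst • q.snd + q.fst • p.snd := rfl

instance : CommRing (DblSec hL m U) where
  add_assoc a b c := by ext <;> simp [add_assoc]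
  zero_add a := by ext <;> simp
  add_zero a := by ext <;> simp
  add_comm a b := by ext <;> simp [add_comm]
  neg_add_cancel a := by ext <;> simp
  nsmul := nsmulRec
  zsmul := zsmulRec
  left_distrib a b c := by
    ext
    · simp [mul_add, pair_add_right]; abel
    · simp [add_smul, smul_add]; abel
  right_distrib a b c := by
    ext
    · simp [add_mul, pair_add_left]; abel
    · simp [add_smul, smul_add]; abel
  zero_mul a := by ext <;> simp [pair_zero_left]
  mul_zero a := by ext <;> simp [pair_zero_right]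
  one_mul a := by ext <;> simp [pair_zero_left]
  mul_one a := by ext <;> simp [pair_zero_right]
  mul_comm a b := by
    ext
    · simp [mul_comm, pair_comm hL m a.snd b.snd]
    · simp [add_comm]
  mul_assoc a b c := by
    ext
    · simp only [mul_fst, mul_snd, pair_add_left, pair_add_right, pair_smul_left, pair_smul_right]
      ring
    · simp only [mul_fst, mul_snd, smul_add, add_smul, mul_smul, pair_smul_cycle hL m a.snd b.snd c.snd,
        smul_comm c.fst]
      abel

/-- Restriction. -/
def resD (h : V ≤ U) : DblSec hL m U →+* DblSec hL m V where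
  toFun p := ⟨X.presheaf.map (homOfLE h).op p.fst, resM L h p.snd⟩
  map_one' := by ext <;> simp
  map_zero' := by ext <;> simp
  map_add' p q := by ext <;> simp
  map_mul' p q := by
    ext
    · simp [res_pair]
    · simp [resM_smul]

theorem resD_resD {W : X.Opens} (h : V ≤ U) (h' : W ≤ V) (p : DblSec hL m U) :
    resD h' (resD h p) = resD (h'.trans h) p := by
  ext
  · show X.presheaf.map _ (X.presheaf.map _ p.fst) = X.presheaf.map _ p.fst
    rw [← ConcreteCategory.comp_apply, ← Functor.map_comp]
    rfl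
  · exact resM_resM L h h' p.snd

/-- The inclusion of functions. -/
def inlD (U : X.Opens) : Γ(X, U) →+* DblSec hL m U where
  toFun s := ⟨s, 0⟩
  map_one' := rfl
  map_zero' := rfl
  map_add' s t := by ext <;> simp
  map_mul' s t := by ext <;> simp [pair_zero_left]

variable (hL) (m)

/-- The presheaf of rings `O ⊕ L`. -/
def pre : TopCat.Presheaf CommRingCat.{u} X.carrier where
  obj U := CommRingCat.of (DblSec hL m U.unop)
  map i := CommRingCat.ofHom (resD (leOfHom i.unop))
  map_id U := CommRingCat.hom_ext (RingHom.ext fun p => by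
    ext
    · exact ConcreteCategory.congr_hom (X.presheaf.map_id _) p.fst
    · exact resM_refl L p.snd)
  map_comp i j := CommRingCat.hom_ext (RingHom.ext fun p => (resD_resD _ _ p).symm)

theorem isSheaf_pre : (pre hL m).IsSheaf := by
  rw [TopCat.Presheaf.isSheaf_iff_isSheafUniqueGluing]
  intro ι W sf hc
  let T : TopCat.Sheaf Ab X := ⟨L.presheaf, L.isSheaf⟩
  obtain ⟨s, hs, hs'⟩ := TopCat.Sheaf.existsUnique_gluing X.sheaf W (fun i => (show DblSec hL m (W i) from sf i).fst)
    (fun i j => congrArg DblSec.fst (hc i j))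
  obtain ⟨l, hl, hl'⟩ := TopCat.Sheaf.existsUnique_gluing T W (fun i => (show DblSec hL m (W i) from sf i).snd)
    (fun i j => congrArg DblSec.snd (hc i j))
  refine ⟨(⟨s, l⟩ : DblSec hL m (iSup W)), fun i => DblSec.ext (hs i) (hl i), fun p hp => ?_⟩
  exact DblSec.ext (hs' _ fun i => congrArg DblSec.fst (hp i)) (hl' _ fun i => congrArg DblSec.snd (hp i))

/-- The structure map. -/
def strD : X.presheaf ⟶ pre hL m where
  app U := CommRingCat.ofHom (inlD U.unop)
  naturality U V i := CommRingCat.hom_ext (RingHom.ext fun s => DblSec.ext rfl (map_zero _).symm)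

theorem isQC_pre : RelSpec.IsQC (pre hL m) (strD hL m) := by
  haveI : Coh.IsQCoh L := isQCoh_of_isInvertible hL
  intro U hU r
  haveI hlocR := hU.isLocalization_basicOpen r
  letI alg := ((pre hL m).map (homOfLE (X.basicOpen_le r)).op).hom.toAlgebra
  have halg : ∀ p : DblSec hL m U,
      algebraMap ((pre hL m).obj (op U)) ((pre hL m).obj (op (X.basicOpen r))) p = resD (X.basicOpen_le r) p :=
    fun _ => rfl
  have hpow : ∀ n : ℕ, ((inlD U r : DblSec hL m U)) ^ n = inlD U (r ^ n) := fun n => (map_pow _ r n).symm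
  have hmul : ∀ {W : X.Opens} (s : Γ(X, W)) (p : DblSec hL m W), inlD W s * p = ⟨s * p.fst, s • p.snd⟩ :=
    fun s p => by ext <;> simp [inlD, pair_zero_left]
  rw [show ((strD hL m).app (op U)).hom r = (show (pre hL m).obj (op U) from inlD U r) from rfl]
  refine (isLocalization_iff _ _).2 ⟨?_, ?_, ?_⟩
  · rintro ⟨_, n, rfl⟩
    show IsUnit (resD (X.basicOpen_le r) ((inlD U r : DblSec hL m U) ^ n))
    rw [map_pow]
    refine IsUnit.pow n ?_
    have h1 : resD (X.basicOpen_le r) (inlD (hL := hL) (m := m) U r) =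
        inlD (X.basicOpen r) (X.presheaf.map (homOfLE (X.basicOpen_le r)).op r) := DblSec.ext rfl (map_zero _)
    rw [h1]
    exact (RingedSpace.isUnit_res_basicOpen X.toLocallyRingedSpace.toRingedSpace r).map
      (inlD (hL := hL) (m := m) (X.basicOpen r))
  · intro z
    obtain ⟨⟨s, _, a, rfl⟩, hs⟩ := IsLocalization.surj (Submonoid.powers r) (show DblSec hL m (X.basicOpen r) from z).fst
    obtain ⟨b, t, ht⟩ := qcoh_exists_pow_smul hU L r (show DblSec hL m (X.basicOpen r) from z).snd
    refine ⟨⟨(⟨r ^ b * s, r ^ a • t⟩ : DblSec hL m U), ⟨_, a + b, rfl⟩⟩, ?_⟩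
    show (show DblSec hL m (X.basicOpen r) from z) * resD (X.basicOpen_le r) ((inlD U r : DblSec hL m U) ^ (a + b)) =
      resD (X.basicOpen_le r) ⟨r ^ b * s, r ^ a • t⟩
    have h1 : resD (X.basicOpen_le r) ((inlD (hL := hL) (m := m) U r) ^ (a + b)) =
        inlD (X.basicOpen r) (X.presheaf.map (homOfLE (X.basicOpen_le r)).op (r ^ (a + b))) := by
      rw [hpow]; exact DblSec.ext rfl (map_zero _)
    rw [h1, mul_comm, hmul]
    ext
    · show X.presheaf.map _ (r ^ (a + b)) * _ = X.presheaf.map _ (r ^ b * s)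
      rw [map_mul, pow_add, map_mul]
      refine Eq.trans ?_ (congrArg (X.presheaf.map (homOfLE (X.basicOpen_le r)).op (r ^ b) * ·) hs)
      show _ = _ * ((show DblSec hL m (X.basicOpen r) from z).fst *
        X.presheaf.map (homOfLE (X.basicOpen_le r)).op (r ^ a))
      ring
    · show X.presheaf.map _ (r ^ (a + b)) • _ = resM L _ (r ^ a • t)
      rw [resM_smul, ht, smul_smul, pow_add, map_mul]
  · intro x y hxy
    change resD (X.basicOpen_le r) (show DblSec hL m U from x) = resD (X.basicOpen_le r) (show DblSec hL m U from y) at hxy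
    obtain ⟨⟨_, a, rfl⟩, ha⟩ := IsLocalization.exists_of_eq (M := Submonoid.powers r) (S := Γ(X, X.basicOpen r))
      (congrArg DblSec.fst hxy)
    obtain ⟨b, hb⟩ := qcoh_exists_pow_smul_eq_zero hU L r
      ((show DblSec hL m U from x).snd - (show DblSec hL m U from y).snd)
      (by rw [map_sub, sub_eq_zero]; exact congrArg DblSec.snd hxy)
    refine ⟨⟨_, a + b, rfl⟩, ?_⟩
    show (inlD U r : DblSec hL m U) ^ (a + b) * _ = (inlD U r : DblSec hL m U) ^ (a + b) * _
    rw [hpow, hmul, hmul]
    ext
    · show r ^ (a + b) * _ = r ^ (a + b) * _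
      rw [pow_add, mul_comm (r ^ a) (r ^ b), mul_assoc, mul_assoc]
      exact congrArg (r ^ b * ·) ha
    · show r ^ (a + b) • _ = r ^ (a + b) • _
      rw [← sub_eq_zero, ← smul_sub, pow_add, mul_smul, hb, smul_zero]

/-- The quasi-coherent algebra `O ⊕ L`. -/
def alg : RelSpec.QCAlg X := ⟨pre hL m, isSheaf_pre hL m, strD hL m, isQC_pre hL m⟩

/-- The inclusion of `L`. -/
def incl : L ⟶ (alg hL m).toModule :=
  ⟨PresheafOfModules.homMk
    { app := fun U => AddCommGrpCat.ofHom (AddMonoidHom.mk' (fun l => (⟨0, l⟩ : DblSec hL m U.unop))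
        (fun l l' => DblSec.ext (add_zero 0).symm rfl))
      naturality := fun U V g => ConcreteCategory.hom_ext _ _ fun l => by
        show (⟨0, resM L (leOfHom g.unop) l⟩ : DblSec hL m V.unop) = resD (leOfHom g.unop) ⟨0, l⟩
        exact DblSec.ext (map_zero _).symm rfl }
    (fun U r l => DblSec.ext (by
        show (0 : Γ(X, U.unop)) = (inlD U.unop r : DblSec hL m U.unop).fst * 0 + pair m 0 l
        rw [mul_zero, pair_zero_left, add_zero]) (by
        show (show Γ(X, U.unop) from r) • (show Γ(L, U.unop) from l) =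
          (inlD U.unop r : DblSec hL m U.unop).fst • (show Γ(L, U.unop) from l) + (0 : Γ(X, U.unop)) • (0 : Γ(L, U.unop))
        rw [zero_smul, add_zero]
        rfl))⟩

theorem str_app (U : X.Opens) (s : Γ(X, U)) :
    ((alg hL m).str.app (op U)).hom s = (inlD U s : DblSec hL m U) := rfl

theorem incl_app (U : X.Opens) (l : L.val.obj (op U)) :
    FinCov.toSec (alg hL m) (((incl hL m).val.app (op U)).hom l) = (⟨0, l⟩ : DblSec hL m U) := rfl

theorem isDblAlg_alg : FinCov.IsDblAlg L m (alg hL m) (incl hL m) := by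
  refine ⟨fun U => ⟨?_, ?_⟩, fun U l l' => ?_⟩
  · rintro ⟨s, l⟩ ⟨s', l'⟩ he₀
    have he : (inlD U s : DblSec hL m U) + (⟨0, l⟩ : DblSec hL m U) =
        (inlD U s' : DblSec hL m U) + (⟨0, l'⟩ : DblSec hL m U) := he₀
    refine Prod.ext ?_ ?_
    · simpa [inlD] using congrArg DblSec.fst he
    · have h2 := congrArg DblSec.snd he
      simp [inlD] at h2
      exact h2
  · intro p
    refine ⟨((show DblSec hL m U from p).fst, (show DblSec hL m U from p).snd), ?_⟩
    show (inlD U _ : DblSec hL m U) + ⟨0, _⟩ = (show DblSec hL m U from p)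
    ext <;> simp [inlD]
  · rw [secTwist_tmul_eq]
    show (⟨0, l⟩ : DblSec hL m U) * ⟨0, l'⟩ = inlD U (pair m l l')
    ext
    · show (0 : Γ(X, U)) * 0 + pair m l l' = pair m l l'
      rw [mul_zero, zero_add]
    · show (0 : Γ(X, U)) • l' + (0 : Γ(X, U)) • l = 0
      rw [zero_smul, zero_smul, add_zero]

end Groth.Agent.FinCovLib29.Construct
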