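import Groth.Agent.FinCovLib29.Split
import Groth.Agent.AmpleLib.Tensor

/-!
# Rank two algebras and pairings
-/

set_option autoImplicit false
set_option backward.isDefEq.respectTransparency.types false

universe u

open CategoryTheory CategoryTheory.Limits AlgebraicGeometry Opposite TopologicalSpace
open Groth.Agent.Coherent Groth.Agent.PicLib Groth.Agent.AmpleLib

noncomputable section

namespace Groth.Agent.FinCovLib29

variable {X : Scheme.{u}}

theorem secTwist_tmul_eq (L M : X.Modules) (U : X.Opens) (a : Γ(L, U)) (b : Γ(M, U)) :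
    SecTwist.tmul L M U a b = AmpleLib.tmul a b := rfl

/-- The index type of a basis `(1, v)`. -/
abbrev Two : Type u := Option (ULift.{u} (Fin 1))

def twoEquiv : ULift.{u} (Fin 2) ≃ Two.{u} :=
  Fintype.equivOfCardEq (by simp)

variable {A : RelSpec.QCAlg X}

theorem isBasisOn_two {W : X.Opens} {v : Γ(A.toModule, W)}
    (h : ∀ ⦃V : X.Opens⦄ (hV : V ≤ W), Function.Bijective fun p : Γ(X, V) × Γ(X, V) =>
      p.1 • one' A V + p.2 • resM A.toModule hV v) :
    IsBasisOn A.toModule W (fun o : Two.{u} => o.elim (one' A W) fun _ => v) := by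
  intro V hV
  have h2 : (fun c : Two.{u} → Γ(X, V) => ∑ o, c o • resM A.toModule hV (o.elim (one' A W) fun _ => v)) =
      (fun p : Γ(X, V) × Γ(X, V) => p.1 • one' A V + p.2 • resM A.toModule hV v) ∘
        (fun c => (c none, c (some ⟨0⟩))) := by
    funext c
    rw [Fintype.sum_option, Fintype.sum_unique]
    show c none • resM A.toModule hV (one' A W) + c (some default) • resM A.toModule hV v = _
    rw [resM_one']
    rfl
  rw [h2]
  refine (h hV).comp ⟨fun a b hab => funext fun o => ?_, fun p => ⟨fun o => o.elim p.1 fun _ => p.2, rfl⟩⟩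
  rcases o with - | k
  · exact congrArg Prod.fst hab
  · rw [Subsingleton.elim k ⟨0⟩]; exact congrArg Prod.snd hab

/-- On an open with a basis `(1, v)`, the square of `v` has a scalar component, and `v` is traceless exactly if it has
no other component. -/
theorem trSec_two {W : X.Opens} {v : Γ(A.toModule, W)}
    (hb : IsBasisOn A.toModule W (fun o : Two.{u} => o.elim (one' A W) fun _ => v)) (α β : Γ(X, W))
    (hsq : toM A (toR A v * toR A v) = α • one' A W + β • v) : trSec A W v = β := by
  classical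
  rw [trSec_eq_sum A hb le_rfl, Fintype.sum_option, Fintype.sum_unique]
  have h0 : toM A (toR A v * toR A (resM A.toModule (le_refl W) (one' A W))) = v := by
    rw [resM_one']
    show toR A v * (A.str.app (op W)).hom 1 = toR A v
    rw [map_one, mul_one]
  have h1 : hb.coef le_rfl v = fun o => if o = some default then 1 else 0 := by
    have := hb.coef_self le_rfl (some default)
    rwa [show resM A.toModule (le_refl W) (Option.elim (some (default : ULift.{u} (Fin 1))) (one' A W) fun _ => v) = v
      from resM_refl _ _] at this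
  have h2 : hb.coef le_rfl (toM A (toR A v * toR A (resM A.toModule (le_refl W) v))) =
      fun o => o.elim α fun _ => β := by
    rw [resM_refl, hsq]
    refine hb.coef_eq le_rfl ?_
    rw [Fintype.sum_option, Fintype.sum_unique]
    simp [resM_refl]
  show hb.coef le_rfl (toM A (toR A v * toR A (resM A.toModule (le_refl W) (one' A W)))) none +
    hb.coef le_rfl (toM A (toR A v * toR A (resM A.toModule (le_refl W) v))) (some default) = β
  rw [h0, h2, h1]
  simp

section Dbl

variable {L : X.Modules} {m : CohB1.tensorMod L L ⟶ Coh.structureModule X} {j : L ⟶ A.toModule}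
variable (h : FinCov.IsDblAlg L m A j)
include h

theorem isBasisOn_dbl {W : X.Opens} {g : Γ(L, W)} (hg : IsGen L W g) :
    IsBasisOn A.toModule W (fun o : Two.{u} => o.elim (one' A W) fun _ => j.app W g) := by
  refine isBasisOn_two fun V hV => ?_
  have h2 : (fun p : Γ(X, V) × Γ(X, V) => p.1 • one' A V + p.2 • resM A.toModule hV (j.app W g)) =
      (fun p : Γ(X, V) × Γ(L, V) => (A.str.app (op V)).hom p.1 + toR A (j.app V p.2)) ∘
        Prod.map id (fun r => r • resM L hV g) := by
    funext p
    simp only [Function.comp_apply, Prod.map, id, Scheme.Modules.Hom.app_smul, app_resM]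
    rw [← str_smul_one V p.1]
    rfl
  rw [h2]
  exact (h.1 V).comp (Function.bijective_id.prodMap (hg V hV))

theorem isFinLocFreeOfRank_two (hL : PicF.IsInvertible L) : FlatMod.IsFinLocFreeOfRank 2 A.toModule := fun y => by
  obtain ⟨W, hy, g, hg⟩ := exists_isGen hL y
  exact ⟨W, hy, nonempty_iso_of_isBasisOn (isBasisOn_reindex (isBasisOn_dbl h hg) twoEquiv)⟩

theorem trace_j (hL : PicF.IsInvertible L) {τ : A.toModule ⟶ Coh.structureModule X} (hτ : FinCov.IsTrace A τ)
    (U : X.Opens) (l : Γ(L, U)) : τ.app U (j.app U l) = 0 := by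
  have hA := isFinLocFreeOfRank_two h hL
  have hA' : FlatMod.IsFinLocFree A.toModule := fun x => by
    obtain ⟨V, hx, e⟩ := hA x
    exact ⟨V, 2, hx, e⟩
  refine sec_ext _ _ _ fun y hy => ?_
  obtain ⟨W₀, hy₀, g, hg⟩ := exists_isGen hL y
  refine ⟨W₀ ⊓ U, inf_le_right, ⟨hy₀, hy⟩, ?_⟩
  have hg' := hg.restrict (inf_le_left : W₀ ⊓ U ≤ W₀)
  set g' := resM L (inf_le_left : W₀ ⊓ U ≤ W₀) g
  have hgood : Good A (W₀ ⊓ U) := ⟨2, _, isBasisOn_reindex (isBasisOn_dbl h hg') twoEquiv⟩
  have h0 : τ.app (W₀ ⊓ U) (j.app (W₀ ⊓ U) g') = 0 := by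
    refine (isTrace_app_good A hτ hA' hgood _).trans ?_
    refine trSec_two (isBasisOn_dbl h hg') ((show Γ(X, W₀ ⊓ U) from m.app (W₀ ⊓ U) (tmul g' g'))) 0 ?_
    rw [zero_smul, add_zero, ← str_smul_one]
    exact h.2 (W₀ ⊓ U) g' g'
  rw [← app_resM, ← app_resM, ← hg'.coef_spec le_rfl (resM L inf_le_right l), resM_refl,
    Scheme.Modules.Hom.app_smul, Scheme.Modules.Hom.app_smul, h0, smul_zero, map_zero]

theorem trace_eq_zero_iff (hL : PicF.IsInvertible L) (h2 : IsUnit (2 : Γ(X, ⊤)))
    {τ : A.toModule ⟶ Coh.structureModule X} (hτ : FinCov.IsTrace A τ) (U : X.Opens) (a : Γ(A.toModule, U)) :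
    τ.app U a = 0 ↔ a ∈ Set.range (j.app U) := by
  have hA := isFinLocFreeOfRank_two h hL
  obtain ⟨⟨s, l⟩, rfl⟩ := (h.1 U).2 a
  have hτa : τ.app U ((A.str.app (op U)).hom s + toR A (j.app U l) : Γ(A.toModule, U)) = (2 • s : Γ(X, U)) := by
    refine ((τ.app U).hom.map_add _ _).trans ?_
    rw [show (τ.app U).hom (toR A (j.app U l)) = 0 from trace_j h hL hτ U l, add_zero]
    exact tau_str hA hτ U s
  constructor
  · intro ha
    refine ⟨l, ?_⟩
    have hs : s = 0 := by
      have h3 : (2 • s : Γ(X, U)) = 0 := hτa.symm.trans ha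
      obtain ⟨w, hw⟩ := h2.exists_left_inv
      have h4 := congrArg (X.presheaf.map (homOfLE (le_top : U ≤ ⊤)).op).hom hw
      rw [map_mul, map_ofNat, map_one] at h4
      rw [← one_mul s, ← h4, mul_assoc, show (2 : Γ(X, U)) * s = 0 by rwa [nsmul_eq_mul, Nat.cast_ofNat] at h3, mul_zero]
    show j.app U l = (A.str.app (op U)).hom s + toR A (j.app U l)
    rw [hs, map_zero]
    exact (zero_add _).symm
  · rintro ⟨l', hl'⟩
    refine Eq.trans (congrArg (τ.app U).hom hl'.symm) ?_
    exact trace_j h hL hτ U l'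

end Dbl

section OfTrace

variable {τ : A.toModule ⟶ Coh.structureModule X}

/-- The pairing on the traceless part: half the trace of the product. -/
def traceForm (w : Γ(X, ⊤)) : Bilin (kernel τ) (kernel τ) (Coh.structureModule X) where
  app U a b := (show Γ(X, U) from X.presheaf.map (homOfLE (le_top : U ≤ ⊤)).op w *
    (show Γ(X, U) from τ.app U (toM A (toR A ((kernel.ι τ).app U a) * toR A ((kernel.ι τ).app U b)))))
  add_left U a a' b := by
    show _ * _ = (_ * _ + _ * _ : Γ(X, U))
    rw [← mul_add]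
    congr 1
    rw [map_add]
    exact (congrArg (τ.app U).hom (add_mul (toR A ((kernel.ι τ).app U a)) (toR A ((kernel.ι τ).app U a')) _)).trans
      (map_add (τ.app U).hom _ _)
  add_right U a b b' := by
    show _ * _ = (_ * _ + _ * _ : Γ(X, U))
    rw [← mul_add]
    congr 1
    rw [map_add]
    exact (congrArg (τ.app U).hom (mul_add (toR A ((kernel.ι τ).app U a)) (toR A ((kernel.ι τ).app U b)) _)).trans
      (map_add (τ.app U).hom _ _)
  smul_left U r a b := by
    show _ * _ = (r * (_ * _) : Γ(X, U))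
    rw [mul_left_comm, Scheme.Modules.Hom.app_smul, toR_smul, mul_assoc]
    congr 1
    exact Scheme.Modules.Hom.app_smul τ r _
  smul_right U r a b := by
    show _ * _ = (r * (_ * _) : Γ(X, U))
    rw [mul_left_comm, Scheme.Modules.Hom.app_smul, toR_smul, mul_left_comm]
    congr 1
    exact Scheme.Modules.Hom.app_smul τ r _
  res U V h a b := by
    show X.presheaf.map (homOfLE h).op (_ * _) = _
    rw [map_mul, ← ConcreteCategory.comp_apply, ← Functor.map_comp]
    congr 1
    refine (app_resM τ h _).symm.trans (congrArg (τ.app V).hom ?_)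
    show (A.presheaf.map (homOfLE h).op).hom (_ * _) = _
    rw [map_mul, ← toR_resM, ← toR_resM, ← app_resM, ← app_resM]

theorem isDblAlg_kernel (hA : FlatMod.IsFinLocFreeOfRank 2 A.toModule) (hτ : FinCov.IsTrace A τ) (w : Γ(X, ⊤))
    (hw : w * 2 = 1) : FinCov.IsDblAlg (kernel τ) (traceForm (τ := τ) w).desc A (kernel.ι τ) := by
  have hA' : FlatMod.IsFinLocFree A.toModule := fun x => by
    obtain ⟨V, hx, e⟩ := hA x
    exact ⟨V, 2, hx, e⟩
  have hd : IsUnit ((2 : ℕ) : Γ(X, ⊤)) := by
    rw [Nat.cast_ofNat]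
    exact IsUnit.of_mul_eq_one _ ((mul_comm _ _).trans hw)
  have hwU : ∀ U : X.Opens, X.presheaf.map (homOfLE (le_top : U ≤ ⊤)).op w * 2 = 1 := fun U => by
    have h4 := congrArg (X.presheaf.map (homOfLE (le_top : U ≤ ⊤)).op).hom hw
    rwa [map_mul, map_ofNat, map_one] at h4
  have hkey : ∀ (U : X.Opens) (s : Γ(X, U)) (k : Γ(kernel τ, U)),
      (show Γ(X, U) from τ.app U ((A.str.app (op U)).hom s + toR A ((kernel.ι τ).app U k) : Γ(A.toModule, U))) = 2 • s := by
    intro U s k
    refine ((τ.app U).hom.map_add _ _).trans ?_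
    rw [show (τ.app U).hom (toR A ((kernel.ι τ).app U k)) = 0 from kernel_ι_app_zero τ U k, add_zero]
    exact tau_str hA hτ U s
  refine ⟨fun U => ⟨?_, ?_⟩, fun U l l' => ?_⟩
  · rintro ⟨s, k⟩ ⟨s', k'⟩ (he : (A.str.app (op U)).hom s + _ = (A.str.app (op U)).hom s' + _)
    have h1 := congrArg (fun x : Γ(A.toModule, U) => (show Γ(X, U) from τ.app U x)) he
    replace h1 : (2 • s : Γ(X, U)) = 2 • s' := (hkey U s k).symm.trans (h1.trans (hkey U s' k'))
    rw [nsmul_eq_mul, nsmul_eq_mul, Nat.cast_ofNat] at h1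
    have hs : s = s' := by
      rw [← one_mul s, ← one_mul s', ← hwU U, mul_assoc, mul_assoc, h1]
    subst hs
    exact Prod.ext rfl (app_injective_of_mono (kernel.ι τ) U (add_left_cancel (G := A.presheaf.obj (op U)) he))
  · intro x
    let s : Γ(X, U) := X.presheaf.map (homOfLE (le_top : U ≤ ⊤)).op w * (show Γ(X, U) from τ.app U x)
    have h0 : τ.app U ((show Γ(A.toModule, U) from x) - toM A ((A.str.app (op U)).hom s)) = 0 := by
      refine ((τ.app U).hom.map_sub _ _).trans (sub_eq_zero.2 ?_)
      refine Eq.trans ?_ (tau_str hA hτ U s).symm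
      show (show Γ(X, U) from τ.app U x) = 2 • (_ * _ : Γ(X, U))
      rw [nsmul_eq_mul, Nat.cast_ofNat, ← mul_assoc, mul_comm (2 : Γ(X, U)), hwU, one_mul]
    obtain ⟨k, hk⟩ := kernel_sections_exact τ _ h0
    refine ⟨(s, k), ?_⟩
    show (A.str.app (op U)).hom s + toR A ((kernel.ι τ).app U k) = x
    rw [hk]
    exact add_sub_cancel _ _
  · show toR A ((kernel.ι τ).app U l) * toR A ((kernel.ι τ).app U l') =
      toR A (toM A ((A.str.app (op U)).hom ((traceForm (τ := τ) w).desc.app U (SecTwist.tmul _ _ U l l'))))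
    rw [secTwist_tmul_eq, Bilin.desc_tmul]
    refine sec_ext A.toModule _ _ fun y hy => ?_
    obtain ⟨W₀, f, hy₀, hf, hfA⟩ := exists_kernel_basis hA hτ hd y
    refine ⟨W₀ ⊓ U, inf_le_right, ⟨hy₀, hy⟩, ?_⟩
    set W := W₀ ⊓ U
    have hW : W ≤ W₀ := inf_le_left
    let v := (kernel.ι τ).app W (resM (kernel τ) hW (f ⟨0⟩))
    have hfW : IsBasisOn A.toModule W (fun o : Two.{u} => o.elim (one' A W) fun _ => v) := by
      convert isBasisOn_restrict hfA hW using 1
      funext o
      rcases o with - | k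
      · exact (resM_one' hW).symm
      · show v = resM A.toModule hW ((kernel.ι τ).app W₀ (f k))
        rw [← app_resM, Subsingleton.elim k ⟨0⟩]
    have hgood : Good A W := ⟨2, _, isBasisOn_reindex hfW twoEquiv⟩
    let α := hfW.coef le_rfl (toM A (toR A v * toR A v)) none
    let β := hfW.coef le_rfl (toM A (toR A v * toR A v)) (some ⟨0⟩)
    have hsq : toM A (toR A v * toR A v) = α • one' A W + β • v := by
      conv_lhs => rw [← hfW.coef_spec le_rfl (toM A (toR A v * toR A v))]
      rw [Fintype.sum_option, Fintype.sum_unique]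
      simp only [Option.elim, resM_refl, α, β]
      rfl
    have hβ : β = 0 := by
      rw [← trSec_two hfW α β hsq, ← isTrace_app_good A hτ hA' hgood v]
      exact kernel_ι_app_zero τ W _
    rw [hβ, zero_smul, add_zero] at hsq
    haveI : Unique (ULift.{u} (Fin (2 - 1))) := inferInstanceAs (Unique (ULift.{u} (Fin 1)))
    have hk : ∀ a : Γ(kernel τ, W), ∃ c : Γ(X, W), (kernel.ι τ).app W a = c • v := fun a => by
      refine ⟨hf.coef hW a ⟨0⟩, ?_⟩
      conv_lhs => rw [← hf.coef_spec hW a]
      rw [Fintype.sum_eq_single (⟨0⟩ : ULift.{u} (Fin (2 - 1))) fun b hb => absurd (Subsingleton.elim b _) hb,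
        Scheme.Modules.Hom.app_smul]
    obtain ⟨c, hc⟩ := hk (resM (kernel τ) inf_le_right l)
    obtain ⟨c', hc'⟩ := hk (resM (kernel τ) inf_le_right l')
    have hprod : resM A.toModule (inf_le_right : W ≤ U) (toM A (toR A ((kernel.ι τ).app U l) * toR A ((kernel.ι τ).app U l'))) =
        (c * c' * α) • one' A W := by
      show (A.presheaf.map (homOfLE (inf_le_right : W ≤ U)).op).hom (_ * _) = _
      rw [map_mul, ← toR_resM, ← toR_resM, ← app_resM, ← app_resM, hc, hc']
      show toR A (c • v) * toR A (c' • v) = toR A ((c * c' * α) • one' A W)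
      rw [mul_smul (c * c') α, ← hsq, toR_smul, toR_smul, toR_smul]
      show _ = (A.str.app (op W)).hom (c * c') * (toR A v * toR A v)
      rw [map_mul]
      ring
    refine hprod.trans ?_
    rw [resM_str, str_smul_one (A := A) W (X.presheaf.map (homOfLE (inf_le_right : W ≤ U)).op _)]
    congr 1
    show c * c' * α = X.presheaf.map (homOfLE (inf_le_right : W ≤ U)).op
      (X.presheaf.map (homOfLE (le_top : U ≤ ⊤)).op w * (show Γ(X, U) from τ.app U _))
    rw [map_mul, ← ConcreteCategory.comp_apply, ← Functor.map_comp]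
    have h5 : X.presheaf.map (homOfLE (inf_le_right : W ≤ U)).op (show Γ(X, U) from τ.app U
        (toM A (toR A ((kernel.ι τ).app U l) * toR A ((kernel.ι τ).app U l')))) = 2 • (c * c' * α) := by
      refine (app_resM τ inf_le_right _).symm.trans ?_
      rw [hprod, ← str_smul_one]
      exact tau_str hA hτ W _
    rw [h5, nsmul_eq_mul, Nat.cast_ofNat, ← mul_assoc]
    change _ = X.presheaf.map (homOfLE (le_top : W ≤ ⊤)).op w * 2 * _
    rw [hwU, one_mul]

end OfTrace

end Groth.Agent.FinCovLib29
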