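import Groth.Agent.FinCovLib29.Trace
import Groth.Agent.AmpleLib.Power

/-!
# Splitting off the unit by the trace
-/

set_option autoImplicit false
set_option backward.isDefEq.respectTransparency.types false

universe u

open CategoryTheory CategoryTheory.Limits AlgebraicGeometry Opposite TopologicalSpace
open Groth.Agent.Coherent Groth.Agent.PicLib Groth.Agent.AmpleLib

noncomputable section

namespace Groth.Agent.FinCovLib29

variable {X : Scheme.{u}}

theorem isBasisOn_reindex {I J : Type u} [Fintype I] [Fintype J] {M : X.Modules} {U : X.Opens}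
    {e : I → Γ(M, U)} (hb : IsBasisOn M U e) (σ : J ≃ I) : IsBasisOn M U (e ∘ σ) := by
  intro V hV
  have h2 : (fun c : J → Γ(X, V) => ∑ j, c j • resM M hV ((e ∘ σ) j)) =
      (fun c : I → Γ(X, V) => ∑ i, c i • resM M hV (e i)) ∘ (fun c => c ∘ σ.symm) := by
    funext c
    exact Fintype.sum_equiv σ _ _ fun j => by simp
  rw [h2]
  exact (hb hV).comp (Equiv.arrowCongr σ (Equiv.refl Γ(X, V))).bijective

variable {A : RelSpec.QCAlg X} {d : ℕ} {τ : A.toModule ⟶ Coh.structureModule X}

/-- `1` as a section of the module. -/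
abbrev one' (A : RelSpec.QCAlg X) (V : X.Opens) : Γ(A.toModule, V) :=
  toM A ((A.str.app (op V)).hom (1 : Γ(X, V)))

theorem str_smul_one (V : X.Opens) (r : Γ(X, V)) :
    toM A ((A.str.app (op V)).hom r) = r • one' A V := by
  show (A.str.app (op V)).hom r = (A.str.app (op V)).hom r * (A.str.app (op V)).hom 1
  rw [map_one, mul_one]

theorem resM_str {U V : X.Opens} (h : V ≤ U) (r : Γ(X, U)) :
    resM A.toModule h (toM A ((A.str.app (op U)).hom r)) =
      toM A ((A.str.app (op V)).hom (X.presheaf.map (homOfLE h).op r)) :=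
  (congrArg (fun f => CommRingCat.Hom.hom f r) (A.str.naturality (homOfLE h).op)).symm

theorem resM_one' {U V : X.Opens} (h : V ≤ U) : resM A.toModule h (one' A U) = one' A V := by
  rw [resM_str, map_one]

variable (hA : FlatMod.IsFinLocFreeOfRank d A.toModule) (hτ : FinCov.IsTrace A τ)
include hA hτ

theorem tau_str (V : X.Opens) (r : Γ(X, V)) :
    (show Γ(X, V) from τ.app V (toM A ((A.str.app (op V)).hom r))) = d • r := by
  have h := congrArg (fun φ : Coh.structureModule X ⟶ Coh.structureModule X => φ.app V (show Γ(X, V) from r))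
    (strMod_comp_eq A hA hτ)
  have hn : ∀ n : ℕ, (n • 𝟙 (Coh.structureModule X)).app V (show Γ(X, V) from r) = n • (show Γ(X, V) from r) := by
    intro n
    induction n with
    | zero => rw [zero_smul, zero_smul, Scheme.Modules.Hom.zero_app]; rfl
    | succ n ih => rw [succ_nsmul, succ_nsmul, Scheme.Modules.Hom.add_app, ← ih]; rfl
  exact h.trans (hn d)

theorem isSplitEpi_trace (hd : IsUnit (d : Γ(X, ⊤))) : IsSplitEpi τ := by
  obtain ⟨w, hw⟩ := hd.exists_left_inv
  refine ⟨⟨⟨unitDesc A.toModule (toM A ((A.str.app (op ⊤)).hom w)), ?_⟩⟩⟩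
  refine Scheme.Modules.hom_ext _ _ fun V => ConcreteCategory.hom_ext _ _ fun r => ?_
  show τ.app V ((unitDesc A.toModule _).app V r) = r
  rw [app_unit, unitVal_unitDesc, resM_str, Scheme.Modules.Hom.app_smul]
  show (show Γ(X, V) from r) * (show Γ(X, V) from τ.app V _) = r
  rw [tau_str hA hτ, nsmul_eq_mul]
  have h1 := congrArg (X.presheaf.map (homOfLE (le_top : V ≤ ⊤)).op).hom hw
  rw [map_mul, map_natCast, map_one, mul_comm] at h1
  rw [h1, mul_one]

/-- Over a neighbourhood of `y` the kernel of the trace has a basis of `d - 1` sections and, together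
with `1`, they form a basis of the algebra. -/
theorem exists_kernel_basis (hd : IsUnit (d : Γ(X, ⊤))) (y : X) :
    ∃ (W : X.Opens) (f : ULift.{u} (Fin (d - 1)) → Γ(kernel τ, W)), y ∈ W ∧
      IsBasisOn (kernel τ) W f ∧
      IsBasisOn A.toModule W (fun o : Option (ULift.{u} (Fin (d - 1))) =>
        o.elim (one' A W) fun i => (kernel.ι τ).app W (f i)) := by
  classical
  obtain ⟨V, e, hyV, he⟩ := exists_isBasisOn_of_rank hA y
  obtain ⟨w, hw⟩ := hd.exists_left_inv
  have hdV : ∀ U : X.Opens, (X.presheaf.map (homOfLE (le_top : U ≤ ⊤)).op w : Γ(X, U)) * d = 1 := fun U => by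
    have h1 := congrArg (X.presheaf.map (homOfLE (le_top : U ≤ ⊤)).op).hom hw
    rwa [map_mul, map_natCast, map_one] at h1
  let c := he.coef le_rfl (one' A V)
  have hc : ∑ i, c i • e i = one' A V := by
    simpa only [resM_refl] using he.coef_spec le_rfl (one' A V)
  obtain ⟨i, hi⟩ : ∃ i, IsUnit (X.presheaf.germ V y hyV (c i)) := by
    by_contra! hne
    have h1 : (d : Γ(X, V)) = ∑ i, c i * (show Γ(X, V) from τ.app V (e i)) := by
      have h2 := congrArg (fun x => (show Γ(X, V) from τ.app V x)) hc
      simp only [map_sum, Scheme.Modules.Hom.app_smul] at h2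
      refine Eq.trans ?_ h2.symm
      exact ((tau_str hA hτ V 1).trans (nsmul_one d)).symm
    have h3 : IsUnit (X.presheaf.germ V y hyV (d : Γ(X, V))) :=
      (IsUnit.of_mul_eq_one _ ((mul_comm _ _).trans (hdV V))).map _
    rw [h1, map_sum] at h3
    refine (IsLocalRing.mem_maximalIdeal _).1 (Ideal.sum_mem _ fun i _ => ?_) h3
    rw [map_mul]
    exact Ideal.mul_mem_right _ _ ((IsLocalRing.mem_maximalIdeal _).2 (hne i))
  let W := X.basicOpen (c i)
  have hWV : W ≤ V := X.basicOpen_le _
  let J := {j : ULift.{u} (Fin d) // j ≠ i}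
  let σ : ULift.{u} (Fin (d - 1)) ≃ J := (Fintype.equivOfCardEq (by
    rw [Fintype.card_ulift, Fintype.card_fin, Fintype.card_subtype_compl, Fintype.card_subtype_eq,
      Fintype.card_ulift, Fintype.card_fin]))
  have hspec : ∀ {U : X.Opens} (h : U ≤ W) (x : Γ(A.toModule, U)),
      ∃ (α : Γ(X, U)) (β : J → Γ(X, U)),
        α • one' A U + ∑ j : J, β j • resM A.toModule (h.trans hWV) (e j) = x := by
    intro U h x
    obtain ⟨v, hv⟩ := (isUnit_res_pow (c i) (h.trans hWV) h 1).exists_left_inv
    rw [pow_one] at hv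
    let b := he.coef (h.trans hWV) x
    refine ⟨b i * v, fun j => b j - b i * v * X.presheaf.map (homOfLE (h.trans hWV)).op (c j), ?_⟩
    have h1 : ∑ j, (X.presheaf.map (homOfLE (h.trans hWV)).op (c j)) • resM A.toModule (h.trans hWV) (e j) =
        one' A U := by
      have h2 := congrArg (resM A.toModule (h.trans hWV)) hc
      simpa only [map_sum, resM_smul, resM_one'] using h2
    conv_rhs => rw [← he.coef_spec (h.trans hWV) x]
    rw [← h1, Finset.smul_sum, ← Finset.add_sum_erase _ _ (Finset.mem_univ i),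
      ← Finset.add_sum_erase _ (fun j => he.coef (h.trans hWV) x j • _) (Finset.mem_univ i), smul_smul,
      mul_assoc, hv, mul_one, add_assoc]
    congr 1
    have hsum : ∀ F : ULift.{u} (Fin d) → Γ(A.toModule, U), ∑ j ∈ Finset.univ.erase i, F j = ∑ j : J, F j := fun F =>
      Finset.sum_subtype _ (fun j => by simp) F
    rw [hsum, hsum, ← Finset.sum_add_distrib]
    refine Finset.sum_congr rfl fun j _ => ?_
    rw [smul_smul, ← add_smul]
    congr 1
    ring
  have hindep : ∀ {U : X.Opens} (h : U ≤ W) (α : Γ(X, U)) (β : J → Γ(X, U)),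
      α • one' A U + ∑ j : J, β j • resM A.toModule (h.trans hWV) (e j) = 0 → α = 0 ∧ β = 0 := by
    intro U h α β h0
    obtain ⟨v, hv⟩ := (isUnit_res_pow (c i) (h.trans hWV) h 1).exists_left_inv
    rw [pow_one] at hv
    have h1 : ∑ j, (X.presheaf.map (homOfLE (h.trans hWV)).op (c j)) • resM A.toModule (h.trans hWV) (e j) =
        one' A U := by
      have h2 := congrArg (resM A.toModule (h.trans hWV)) hc
      simpa only [map_sum, resM_smul, resM_one'] using h2
    let γ : ULift.{u} (Fin d) → Γ(X, U) := fun j =>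
      α * X.presheaf.map (homOfLE (h.trans hWV)).op (c j) + if hj : j ≠ i then β ⟨j, hj⟩ else 0
    have h2 : ∑ j, γ j • resM A.toModule (h.trans hWV) (e j) = 0 := by
      simp only [γ, add_smul, Finset.sum_add_distrib, mul_smul, ← Finset.smul_sum, h1]
      refine Eq.trans ?_ h0
      congr 1
      rw [← Finset.add_sum_erase _ _ (Finset.mem_univ i), dif_neg (not_not.2 rfl), zero_smul, zero_add,
        Finset.sum_subtype (p := fun j => j ≠ i) _ (fun j => by simp)]
      exact Finset.sum_congr rfl fun j _ => by rw [dif_pos j.2]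
    have h3 : γ = 0 := (he (h.trans hWV)).1 (h2.trans (by simp))
    have hα : α = 0 := by
      have h4 := congrFun h3 i
      simp only [γ, dif_neg (not_not.2 (rfl : i = i)), add_zero, Pi.zero_apply] at h4
      rw [← mul_one α, ← hv, mul_left_comm, h4, mul_zero]
    refine ⟨hα, funext fun j => ?_⟩
    have h4 := congrFun h3 j.1
    simpa only [γ, hα, zero_mul, zero_add, dif_pos j.2, Pi.zero_apply] using h4
  let t : ULift.{u} (Fin (d - 1)) → Γ(A.toModule, W) := fun k =>
    resM A.toModule hWV (e (σ k).1) -
      ((show Γ(X, W) from τ.app W (resM A.toModule hWV (e (σ k).1))) *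
        X.presheaf.map (homOfLE (le_top : W ≤ ⊤)).op w) • one' A W
  have ht : ∀ k, τ.app W (t k) = 0 := by
    intro k
    show τ.app W (_ - _) = 0
    rw [map_sub, Scheme.Modules.Hom.app_smul, sub_eq_zero]
    show (show Γ(X, W) from τ.app W _) = (_ : Γ(X, W)) * (show Γ(X, W) from τ.app W (one' A W))
    rw [tau_str hA hτ, nsmul_one, mul_assoc, hdV, mul_one]
  choose f hf using fun k => kernel_sections_exact τ (t k) (ht k)
  have hres : ∀ {U : X.Opens} (h : U ≤ W) (k : ULift.{u} (Fin (d - 1))),
      ∃ s : Γ(X, U), (kernel.ι τ).app U (resM (kernel τ) h (f k)) =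
        resM A.toModule (h.trans hWV) (e (σ k).1) - s • one' A U := fun h k => by
    refine ⟨X.presheaf.map (homOfLE h).op ((show Γ(X, W) from τ.app W (resM A.toModule hWV (e (σ k).1))) *
      X.presheaf.map (homOfLE (le_top : W ≤ ⊤)).op w), ?_⟩
    rw [app_resM, hf]
    simp only [t, map_sub, resM_resM, resM_smul, resM_one']
  have hAb : IsBasisOn A.toModule W (fun o : Option (ULift.{u} (Fin (d - 1))) =>
      o.elim (one' A W) fun i => (kernel.ι τ).app W (f i)) := by
    intro U h
    choose s hs using fun k => hres h k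
    have hrw : ∀ cf : Option (ULift.{u} (Fin (d - 1))) → Γ(X, U),
        ∑ o, cf o • resM A.toModule h (o.elim (one' A W) fun i => (kernel.ι τ).app W (f i)) =
          (cf none - ∑ k, cf (some k) * s k) • one' A U +
            ∑ j : J, cf (some (σ.symm j)) • resM A.toModule (h.trans hWV) (e j) := by
      intro cf
      rw [Fintype.sum_option]
      simp only [Option.elim, resM_one', ← app_resM, hs, smul_sub, Finset.sum_sub_distrib, smul_smul, ← Finset.sum_smul,
        sub_smul]
      rw [← Fintype.sum_equiv σ (fun k => cf (some k) • resM A.toModule (h.trans hWV) (e (σ k).1))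
        (fun j => cf (some (σ.symm j)) • resM A.toModule (h.trans hWV) (e j.1)) (fun k => by simp)]
      abel
    constructor
    · intro a b hab
      have h0 : (fun o => a o - b o) = (0 : Option _ → Γ(X, U)) := by
        have h1 : ∑ o, (a o - b o) • resM A.toModule h (o.elim (one' A W) fun i => (kernel.ι τ).app W (f i)) = 0 := by
          simp only [sub_smul, Finset.sum_sub_distrib]
          exact sub_eq_zero.2 hab
        rw [hrw (fun o => a o - b o)] at h1
        obtain ⟨hα, hβ⟩ := hindep h _ _ h1
        have hk : ∀ k, a (some k) - b (some k) = 0 := fun k => by simpa using congrFun hβ (σ k)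
        funext o
        rcases o with - | k
        · simpa [hk] using hα
        · exact hk k
      funext o
      exact sub_eq_zero.1 (congrFun h0 o)
    · intro x
      obtain ⟨α, β, hx⟩ := hspec h x
      refine ⟨fun o => o.elim (α + ∑ k, β (σ k) * s k) fun k => β (σ k), ?_⟩
      show ∑ o, _ = x
      rw [hrw]
      simpa using hx
  refine ⟨W, f, (X.mem_basicOpen _ y hyV).2 hi, fun U h => ⟨?_, ?_⟩, hAb⟩
  · intro a b hab
    have h1 := congrArg ((kernel.ι τ).app U) hab
    simp only [map_sum, Scheme.Modules.Hom.app_smul] at h1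
    have h2 := (hAb h).1 (a₁ := fun o => o.elim 0 a) (a₂ := fun o => o.elim 0 b) (by
      simpa only [Fintype.sum_option, Option.elim, zero_smul, zero_add, app_resM] using h1)
    exact funext fun k => congrFun h2 (some k)
  · intro x
    obtain ⟨cf, hcf⟩ := (hAb h).2 ((kernel.ι τ).app U x)
    refine ⟨fun k => cf (some k), app_injective_of_mono (kernel.ι τ) U ?_⟩
    have h0 : cf none = 0 := by
      have h1 := congrArg (fun z => (show Γ(X, U) from τ.app U z)) hcf
      simp only [kernel_ι_app_zero, Fintype.sum_option, Option.elim, map_add, map_sum,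
        Scheme.Modules.Hom.app_smul, resM_one', ← app_resM, smul_zero, Finset.sum_const_zero, add_zero] at h1
      change cf none * (show Γ(X, U) from τ.app U (one' A U)) = (0 : Γ(X, U)) at h1
      rw [tau_str hA hτ, nsmul_one] at h1
      rw [← mul_one (cf none), ← hdV U, mul_comm _ (d : Γ(X, U)), ← mul_assoc, h1, zero_mul]
    refine Eq.trans ?_ hcf
    show (kernel.ι τ).app U (∑ k, cf (some k) • resM (kernel τ) h (f k)) = _
    simp only [Fintype.sum_option, h0, zero_smul, zero_add, map_sum, Scheme.Modules.Hom.app_smul, Option.elim, app_resM]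

theorem isFinLocFreeOfRank_kernel (hd : IsUnit (d : Γ(X, ⊤))) :
    FlatMod.IsFinLocFreeOfRank (d - 1) (kernel τ) := fun y => by
  obtain ⟨W, f, hy, hf, -⟩ := exists_kernel_basis hA hτ hd y
  exact ⟨W, hy, nonempty_iso_of_isBasisOn hf⟩

end Groth.Agent.FinCovLib29
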