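import Groth.Agent.FinCovLib29.Basis
import Groth.Prelude.Def_FinCov
import Mathlib.RingTheory.Localization.NormTrace

/-!
# The trace of a finite locally free quasi-coherent algebra
-/

set_option autoImplicit false
set_option backward.isDefEq.respectTransparency.types false

universe u

open CategoryTheory CategoryTheory.Limits AlgebraicGeometry Opposite TopologicalSpace
open Groth.Agent.Coherent Groth.Agent.PicLib

noncomputable section

namespace Groth.Agent.FinCovLib29

variable {X : Scheme.{u}} (A : RelSpec.QCAlg X)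

/-- `A(U)` as an algebra over the functions on `U`. -/
@[reducible] def secAlg (U : X.Opens) : Algebra Γ(X, U) (A.presheaf.obj (op U)) :=
  (A.str.app (op U)).hom.toAlgebra

/-- A section of the underlying module as an element of the ring. -/
abbrev toR {U : X.Opens} (x : Γ(A.toModule, U)) : A.presheaf.obj (op U) := x

/-- An element of the ring as a section of the underlying module. -/
abbrev toM {U : X.Opens} (x : A.presheaf.obj (op U)) : Γ(A.toModule, U) := x

theorem toR_smul {U : X.Opens} (r : Γ(X, U)) (m : Γ(A.toModule, U)) :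
    toR A (r • m) = (A.str.app (op U)).hom r * toR A m := rfl

theorem toR_resM {U V : X.Opens} (h : V ≤ U) (m : Γ(A.toModule, U)) :
    toR A (resM A.toModule h m) = (A.presheaf.map (homOfLE h).op).hom (toR A m) := rfl

variable {I : Type u} [Fintype I] {U : X.Opens} {e : I → Γ(A.toModule, U)}

/-- The basis of `A(V)` given by a basis of the module. -/
def secBasis (hb : IsBasisOn A.toModule U e) {V : X.Opens} (h : V ≤ U) :
    letI := secAlg A V
    Module.Basis I Γ(X, V) (A.presheaf.obj (op V)) :=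
  letI := secAlg A V
  Module.Basis.ofEquivFun
    { toFun := fun x => hb.coef h (toM A x)
      map_add' := fun x y => hb.coef_add h (toM A x) (toM A y)
      map_smul' := fun r x => hb.coef_smul h r (toM A x)
      invFun := fun c => toR A (∑ i, c i • resM A.toModule h (e i))
      left_inv := fun x => hb.coef_spec h (toM A x)
      right_inv := fun c => hb.coef_eq h rfl }

theorem secBasis_repr (hb : IsBasisOn A.toModule U e) {V : X.Opens} (h : V ≤ U)
    (x : A.presheaf.obj (op V)) (i : I) :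
    letI := secAlg A V
    (secBasis A hb h).repr x i = hb.coef h (toM A x) i := rfl

theorem secBasis_apply (hb : IsBasisOn A.toModule U e) {V : X.Opens} (h : V ≤ U) (i : I) :
    letI := secAlg A V
    secBasis A hb h i = toR A (resM A.toModule h (e i)) := by
  classical
  letI := secAlg A V
  refine (secBasis A hb h).repr.injective (Finsupp.ext fun j => ?_)
  rw [Module.Basis.repr_self, secBasis_repr]
  show (Finsupp.single i 1 : I →₀ Γ(X, V)) j = hb.coef h (resM A.toModule h (e i)) j
  rw [hb.coef_self, Finsupp.single_apply]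
  simp [eq_comm]

/-- The trace of `A(V)`. -/
def trSec (V : X.Opens) (a : Γ(A.toModule, V)) : Γ(X, V) :=
  letI := secAlg A V
  Algebra.trace Γ(X, V) (A.presheaf.obj (op V)) (toR A a)

theorem trSec_add {V : X.Opens} (a b : Γ(A.toModule, V)) : trSec A V (a + b) = trSec A V a + trSec A V b :=
  letI := secAlg A V
  map_add (Algebra.trace Γ(X, V) (A.presheaf.obj (op V))) (toR A a) (toR A b)

theorem trSec_smul {V : X.Opens} (r : Γ(X, V)) (a : Γ(A.toModule, V)) :
    trSec A V (r • a) = r * trSec A V a :=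
  letI := secAlg A V
  map_smul (Algebra.trace Γ(X, V) (A.presheaf.obj (op V))) r (toR A a)

theorem trSec_eq_sum (hb : IsBasisOn A.toModule U e) {V : X.Opens} (h : V ≤ U) (a : Γ(A.toModule, V)) :
    trSec A V a = ∑ i, hb.coef h (toM A (toR A a * toR A (resM A.toModule h (e i)))) i := by
  classical
  letI := secAlg A V
  show Algebra.trace Γ(X, V) (A.presheaf.obj (op V)) (toR A a) = _
  rw [Algebra.trace_eq_matrix_trace (secBasis A hb h)]
  refine Finset.sum_congr rfl fun i _ => ?_
  show Algebra.leftMulMatrix (secBasis A hb h) (toR A a) i i = _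
  rw [Algebra.leftMulMatrix_eq_repr_mul, secBasis_repr, secBasis_apply]

theorem trSec_one (hb : IsBasisOn A.toModule U e) {V : X.Opens} (h : V ≤ U) (r : Γ(X, V)) :
    trSec A V (toM A ((A.str.app (op V)).hom r)) = Fintype.card I • r := by
  letI := secAlg A V
  show Algebra.trace Γ(X, V) (A.presheaf.obj (op V)) (algebraMap Γ(X, V) (A.presheaf.obj (op V)) r) = _
  rw [Algebra.trace_algebraMap_of_basis (secBasis A hb h)]

theorem trSec_res (hb : IsBasisOn A.toModule U e) {V W : X.Opens} (h : V ≤ U) (h' : W ≤ V)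
    (a : Γ(A.toModule, V)) :
    X.presheaf.map (homOfLE h').op (trSec A V a) = trSec A W (resM A.toModule h' a) := by
  rw [trSec_eq_sum A hb h, trSec_eq_sum A hb (h'.trans h), map_sum]
  refine Finset.sum_congr rfl fun i _ => ?_
  refine ((congrFun (hb.coef_res h h' _) i).symm).trans ?_
  congr 1
  show toR A (resM A.toModule h' (toM A (toR A a * toR A (resM A.toModule h (e i))))) = _
  rw [toR_resM]
  refine (map_mul (A.presheaf.map (homOfLE h').op).hom _ _).trans ?_
  rw [← toR_resM, ← toR_resM, resM_resM]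

/-- An open over which `A` has a basis. -/
def Good (V : X.Opens) : Prop :=
  ∃ (n : ℕ) (e : ULift.{u} (Fin n) → Γ(A.toModule, V)), IsBasisOn A.toModule V e

theorem Good.mono {A : RelSpec.QCAlg X} {V W : X.Opens} (hV : Good A V) (h : W ≤ V) : Good A W := by
  obtain ⟨n, e, he⟩ := hV
  exact ⟨n, _, isBasisOn_restrict he h⟩

theorem Good.res {A : RelSpec.QCAlg X} {V W : X.Opens} (hV : Good A V) (h : W ≤ V) (a : Γ(A.toModule, V)) :
    X.presheaf.map (homOfLE h).op (trSec A V a) = trSec A W (resM A.toModule h a) := by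
  obtain ⟨n, e, he⟩ := hV
  exact trSec_res A he le_rfl h a

theorem exists_good (hA : FlatMod.IsFinLocFree A.toModule) (U : X.Opens) (y : X) (hy : y ∈ U) :
    ∃ V : X.Opens, V ≤ U ∧ y ∈ V ∧ Good A V := by
  obtain ⟨V, n, e, hyV, he⟩ := exists_isBasisOn hA y
  exact ⟨V ⊓ U, inf_le_right, ⟨hyV, hy⟩, n, _, isBasisOn_restrict he inf_le_left⟩

theorem eq_of_good (hA : FlatMod.IsFinLocFree A.toModule) {U : X.Opens} (s t : Γ(X, U))
    (h : ∀ V (hV : V ≤ U), Good A V → X.presheaf.map (homOfLE hV).op s = X.presheaf.map (homOfLE hV).op t) :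
    s = t := by
  refine TopCat.Sheaf.eq_of_locally_eq' X.sheaf (fun p : {V : X.Opens // V ≤ U ∧ Good A V} => p.1) U
    (fun p => homOfLE p.2.1) (fun y hy => ?_) s t fun p => h p.1 p.2.1 p.2.2
  obtain ⟨V, hVU, hyV, hV⟩ := exists_good A hA U y hy
  exact Opens.mem_iSup.2 ⟨⟨V, hVU, hV⟩, hyV⟩

theorem existsUnique_tau (hA : FlatMod.IsFinLocFree A.toModule) (U : X.Opens) (a : Γ(A.toModule, U)) :
    ∃! s : Γ(X, U), ∀ V (hV : V ≤ U), Good A V →
      X.presheaf.map (homOfLE hV).op s = trSec A V (resM A.toModule hV a) := by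
  obtain ⟨s, hs, -⟩ := TopCat.Sheaf.existsUnique_gluing' X.sheaf
    (fun p : {V : X.Opens // V ≤ U ∧ Good A V} => p.1) U (fun p => homOfLE p.2.1)
    (fun y hy => by
      obtain ⟨V, hVU, hyV, hV⟩ := exists_good A hA U y hy
      exact Opens.mem_iSup.2 ⟨⟨V, hVU, hV⟩, hyV⟩)
    (fun p => trSec A p.1 (resM A.toModule p.2.1 a))
    (fun p q => by
      show X.presheaf.map (homOfLE (inf_le_left : p.1 ⊓ q.1 ≤ p.1)).op (trSec A p.1 _) =
        X.presheaf.map (homOfLE (inf_le_right : p.1 ⊓ q.1 ≤ q.1)).op (trSec A q.1 _)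
      rw [p.2.2.res, q.2.2.res, resM_resM, resM_resM])
  exact ⟨s, fun V hV hg => hs ⟨V, hV, hg⟩, fun t ht => eq_of_good A hA t s fun V hV hg =>
    (ht V hV hg).trans (hs ⟨V, hV, hg⟩).symm⟩

variable (hA : FlatMod.IsFinLocFree A.toModule)

/-- The trace on sections. -/
def tauSec (U : X.Opens) (a : Γ(A.toModule, U)) : Γ(X, U) := (existsUnique_tau A hA U a).choose

theorem tauSec_spec (U : X.Opens) (a : Γ(A.toModule, U)) (V : X.Opens) (hV : V ≤ U) (hg : Good A V) :
    X.presheaf.map (homOfLE hV).op (tauSec A hA U a) = trSec A V (resM A.toModule hV a) :=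
  (existsUnique_tau A hA U a).choose_spec.1 V hV hg

theorem tauSec_eq (U : X.Opens) (a : Γ(A.toModule, U)) (s : Γ(X, U))
    (hs : ∀ V (hV : V ≤ U), Good A V → X.presheaf.map (homOfLE hV).op s = trSec A V (resM A.toModule hV a)) :
    tauSec A hA U a = s :=
  ((existsUnique_tau A hA U a).choose_spec.2 s hs).symm

theorem tauSec_add (U : X.Opens) (a b : Γ(A.toModule, U)) :
    tauSec A hA U (a + b) = tauSec A hA U a + tauSec A hA U b :=
  tauSec_eq A hA U _ _ fun V hV hg => by
    rw [map_add, tauSec_spec A hA U a V hV hg, tauSec_spec A hA U b V hV hg, map_add, trSec_add]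

theorem tauSec_smul (U : X.Opens) (r : Γ(X, U)) (a : Γ(A.toModule, U)) :
    tauSec A hA U (r • a) = r * tauSec A hA U a :=
  tauSec_eq A hA U _ _ fun V hV hg => by
    rw [map_mul, tauSec_spec A hA U a V hV hg, resM_smul, trSec_smul]

theorem tauSec_res {U V : X.Opens} (h : V ≤ U) (a : Γ(A.toModule, U)) :
    X.presheaf.map (homOfLE h).op (tauSec A hA U a) = tauSec A hA V (resM A.toModule h a) := by
  refine (tauSec_eq A hA V _ _ fun W hW hg => ?_).symm
  rw [← ConcreteCategory.comp_apply, ← Functor.map_comp, resM_resM]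
  exact tauSec_spec A hA U a W (hW.trans h) hg

/-- The trace. -/
def tau : A.toModule ⟶ Coh.structureModule X :=
  ⟨PresheafOfModules.homMk
    { app := fun U => AddCommGrpCat.ofHom (AddMonoidHom.mk' (tauSec A hA U.unop) (tauSec_add A hA U.unop))
      naturality := fun U V g => ConcreteCategory.hom_ext _ _ fun a =>
        (tauSec_res A hA (leOfHom g.unop) a).symm }
    (fun U r a => tauSec_smul A hA U.unop r a)⟩

theorem tau_app (U : X.Opens) (a : Γ(A.toModule, U)) : (tau A hA).app U a = tauSec A hA U a := rfl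

theorem good_iff_affine_free {V : X.Opens} (hV : Good A V) :
    letI := secAlg A V
    Module.Free Γ(X, V) (A.presheaf.obj (op V)) ∧ Module.Finite Γ(X, V) (A.presheaf.obj (op V)) := by
  letI := secAlg A V
  obtain ⟨n, e, he⟩ := hV
  exact ⟨Module.Free.of_basis (secBasis A he le_rfl), Module.Finite.of_basis (secBasis A he le_rfl)⟩

theorem trSec_res_basicOpen {U : X.Opens} (hU : IsAffineOpen U)
    (hfree : letI := secAlg A U; Module.Free Γ(X, U) (A.presheaf.obj (op U)))
    (hfin : letI := secAlg A U; Module.Finite Γ(X, U) (A.presheaf.obj (op U)))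
    (r : Γ(X, U)) (a : Γ(A.toModule, U)) :
    X.presheaf.map (homOfLE (X.basicOpen_le r)).op (trSec A U a) =
      trSec A (X.basicOpen r) (resM A.toModule (X.basicOpen_le r) a) := by
  let W := X.basicOpen r
  let φ := (X.presheaf.map (homOfLE (X.basicOpen_le r)).op).hom
  let ψ := (A.presheaf.map (homOfLE (X.basicOpen_le r)).op).hom
  letI aU := secAlg A U
  letI aW := secAlg A W
  letI a1 : Algebra Γ(X, U) Γ(X, W) := φ.toAlgebra
  letI a2 : Algebra (A.presheaf.obj (op U)) (A.presheaf.obj (op W)) := ψ.toAlgebra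
  letI a3 : Algebra Γ(X, U) (A.presheaf.obj (op W)) := ((A.str.app (op W)).hom.comp φ).toAlgebra
  haveI : IsScalarTower Γ(X, U) Γ(X, W) (A.presheaf.obj (op W)) := IsScalarTower.of_algebraMap_eq' rfl
  haveI : IsScalarTower Γ(X, U) (A.presheaf.obj (op U)) (A.presheaf.obj (op W)) :=
    IsScalarTower.of_algebraMap_eq fun x =>
      congrArg (fun f => CommRingCat.Hom.hom f x) (A.str.naturality (homOfLE (X.basicOpen_le r)).op)
  haveI : IsLocalization (Submonoid.powers r) Γ(X, W) := hU.isLocalization_basicOpen r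
  haveI : IsLocalization (Algebra.algebraMapSubmonoid (A.presheaf.obj (op U)) (Submonoid.powers r))
      (A.presheaf.obj (op W)) := by
    rw [Algebra.algebraMapSubmonoid_powers]
    exact A.isQC U hU r
  haveI := hfree
  haveI := hfin
  exact (Algebra.trace_localization (R := Γ(X, U)) (S := A.presheaf.obj (op U)) (Rₘ := Γ(X, W))
    (Sₘ := A.presheaf.obj (op W)) (Submonoid.powers r) (toR A a)).symm

theorem isTrace_tau : FinCov.IsTrace A (tau A hA) := by
  intro U hU hfree hfin a
  refine (tau_app A hA U a).trans (eq_of_good A hA _ _ fun V hV hg => ?_)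
  refine TopCat.Sheaf.eq_of_locally_eq' X.sheaf
    (fun r : {r : Γ(X, U) // X.basicOpen r ≤ V} => X.basicOpen r.1) V (fun r => homOfLE r.2)
    (fun y hy => ?_) _ _ fun r => ?_
  · obtain ⟨f, hf, hyf⟩ := hU.exists_basicOpen_le ⟨y, hy⟩ (hV hy)
    exact Opens.mem_iSup.2 ⟨⟨f, hf⟩, hyf⟩
  · show X.presheaf.map (homOfLE r.2).op (X.presheaf.map (homOfLE hV).op _) =
      X.presheaf.map (homOfLE r.2).op (X.presheaf.map (homOfLE hV).op _)
    rw [← ConcreteCategory.comp_apply, ← ConcreteCategory.comp_apply, ← Functor.map_comp]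
    refine (tauSec_spec A hA U a _ (r.2.trans hV) (hg.mono r.2)).trans ?_
    exact (trSec_res_basicOpen A hU hfree hfin r.1 a).symm

theorem exists_affine_good (U : X.Opens) (y : X) (hy : y ∈ U) (hA : FlatMod.IsFinLocFree A.toModule) :
    ∃ V : X.Opens, V ≤ U ∧ y ∈ V ∧ Good A V ∧ IsAffineOpen V := by
  obtain ⟨V, hVU, hyV, hV⟩ := exists_good A hA U y hy
  obtain ⟨W, hW, hyW, hWV⟩ := exists_isAffineOpen_mem_and_subset hyV
  exact ⟨W, hWV.trans hVU, hyW, hV.mono hWV, hW⟩

theorem eq_tau {τ : A.toModule ⟶ Coh.structureModule X} (hτ : FinCov.IsTrace A τ) : τ = tau A hA := by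
  refine Scheme.Modules.hom_ext _ _ fun U => ConcreteCategory.hom_ext _ _ fun a => ?_
  show τ.app U a = tauSec A hA U a
  refine TopCat.Sheaf.eq_of_locally_eq' X.sheaf
    (fun p : {V : X.Opens // V ≤ U ∧ Good A V ∧ IsAffineOpen V} => p.1) U (fun p => homOfLE p.2.1)
    (fun y hy => ?_) _ _ fun p => ?_
  · obtain ⟨V, hVU, hyV, hV⟩ := exists_affine_good A U y hy hA
    exact Opens.mem_iSup.2 ⟨⟨V, hVU, hV⟩, hyV⟩
  · refine Eq.trans ?_ (tauSec_spec A hA U a p.1 p.2.1 p.2.2.1).symm
    refine (app_resM τ p.2.1 a).symm.trans ?_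
    exact hτ p.1 p.2.2.2 (good_iff_affine_free A p.2.2.1).1 (good_iff_affine_free A p.2.2.1).2 _

theorem existsUnique_isTrace (hA : FlatMod.IsFinLocFree A.toModule) :
    ∃! τ : A.toModule ⟶ Coh.structureModule X, FinCov.IsTrace A τ :=
  ⟨tau A hA, isTrace_tau A hA, fun _ hτ => eq_tau A hA hτ⟩

/-- The trace, read on an open with a basis. -/
theorem isTrace_app_good {τ : A.toModule ⟶ Coh.structureModule X} (hτ : FinCov.IsTrace A τ)
    (hA : FlatMod.IsFinLocFree A.toModule) {V : X.Opens} (hV : Good A V) (a : Γ(A.toModule, V)) :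
    (show Γ(X, V) from τ.app V a) = trSec A V a := by
  rw [eq_tau A hA hτ]
  refine (tau_app A hA V a).trans ?_
  refine tauSec_eq A hA V a _ fun W hW hg => ?_
  exact hV.res hW a

theorem strMod_comp_eq {d : ℕ} (hA' : FlatMod.IsFinLocFreeOfRank d A.toModule)
    {τ : A.toModule ⟶ Coh.structureModule X} (hτ : FinCov.IsTrace A τ) :
    FinCov.strMod A ≫ τ = d • 𝟙 (Coh.structureModule X) := by
  have hA : FlatMod.IsFinLocFree A.toModule := fun x => by
    obtain ⟨U, hx, h⟩ := hA' x
    exact ⟨U, d, hx, h⟩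
  refine Scheme.Modules.hom_ext _ _ fun U => ConcreteCategory.hom_ext _ _ fun s => ?_
  have hn : ∀ n : ℕ, (n • 𝟙 (Coh.structureModule X)).app U s = n • (show Γ(X, U) from s) := by
    intro n
    induction n with
    | zero => rw [zero_smul, zero_smul, Scheme.Modules.Hom.zero_app]; rfl
    | succ n ih => rw [succ_nsmul, succ_nsmul, Scheme.Modules.Hom.add_app, ← ih]; rfl
  show (show Γ(X, U) from τ.app U (toM A ((A.str.app (op U)).hom s))) = _
  rw [hn]
  choose V e hyV he using fun y : U => exists_isBasisOn_of_rank hA' y.1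
  refine TopCat.Sheaf.eq_of_locally_eq' X.sheaf
    (fun y : U => V y ⊓ U) U (fun y => homOfLE inf_le_right)
    (fun y hy => Opens.mem_iSup.2 ⟨⟨y, hy⟩, hyV ⟨y, hy⟩, hy⟩) _ _ fun y => ?_
  show X.presheaf.map (homOfLE (inf_le_right : V y ⊓ U ≤ U)).op _ = X.presheaf.map _ (d • _)
  rw [map_nsmul]
  refine (app_resM τ inf_le_right _).symm.trans ?_
  refine (isTrace_app_good A hτ hA ⟨d, _, isBasisOn_restrict (he y) inf_le_left⟩ _).trans ?_
  have hnat : resM A.toModule (inf_le_right : V y ⊓ U ≤ U) (toM A ((A.str.app (op U)).hom s)) =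
      toM A ((A.str.app (op (V y ⊓ U))).hom (X.presheaf.map (homOfLE inf_le_right).op s)) :=
    (congrArg (fun f => CommRingCat.Hom.hom f s) (A.str.naturality (homOfLE inf_le_right).op)).symm
  rw [hnat, trSec_one A (he y) inf_le_left, Fintype.card_ulift, Fintype.card_fin]

end Groth.Agent.FinCovLib29
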